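import Mathlib
import Cfsg.Agent.SporadicStructure.DodecadM12
import Cfsg.Prelude.Def_Spor_Mathieu
set_option linter.all false

-- part: CoThreeStd/M12/Tab
section
/-!
# Permutations of twelve points as numbers

`dg t i` is the hexadecimal digit `i` of `t`; `Rep x t`: the digits of `t` are the images of the permutation `x`.
`srch` is a search through the products of transversals.
-/

set_option autoImplicit false

namespace Cfsg.Agent.CoThreeStd.M12

abbrev P12 : Type := Equiv.Perm (Fin 12)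

/-- Digit `i`. -/
def dg (t i : ℕ) : ℕ := (t / 16 ^ i) % 16

/-- Twelve digits. -/
def pk (a b c d e f g h i j k l : ℕ) : ℕ :=
  a + 16 * (b + 16 * (c + 16 * (d + 16 * (e + 16 * (f + 16 * (g + 16 * (h + 16 * (i + 16 * (j + 16 * (k + 16 * l))))))))))

theorem dg_lt (t i : ℕ) : dg t i < 16 := Nat.mod_lt _ (by norm_num)

theorem dg_pk (f : ℕ → ℕ) (hf : ∀ i, f i < 16) (i : ℕ) (hi : i < 12) :
    dg (pk (f 0) (f 1) (f 2) (f 3) (f 4) (f 5) (f 6) (f 7) (f 8) (f 9) (f 10) (f 11)) i = f i := by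
  have h0 := hf 0
  have h1 := hf 1
  have h2 := hf 2
  have h3 := hf 3
  have h4 := hf 4
  have h5 := hf 5
  have h6 := hf 6
  have h7 := hf 7
  have h8 := hf 8
  have h9 := hf 9
  have h10 := hf 10
  have h11 := hf 11
  unfold dg pk
  interval_cases i <;> norm_num <;> omega

/-- The table of the product. -/
def mulT (s t : ℕ) : ℕ :=
  pk (dg s (dg t 0)) (dg s (dg t 1)) (dg s (dg t 2)) (dg s (dg t 3)) (dg s (dg t 4)) (dg s (dg t 5))
    (dg s (dg t 6)) (dg s (dg t 7)) (dg s (dg t 8)) (dg s (dg t 9)) (dg s (dg t 10)) (dg s (dg t 11))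

/-- The table represents the permutation. -/
structure Rep (x : P12) (t : ℕ) : Prop where
  dg : ∀ i : Fin 12, dg t i = (x i : ℕ)
  lt : t < 16 ^ 12

theorem step_lt {a x n : ℕ} (ha : a < 16) (hx : x < 16 ^ n) : a + 16 * x < 16 ^ (n + 1) := by
  rw [pow_succ]
  omega

theorem pk_lt (f : ℕ → ℕ) (hf : ∀ i, f i < 16) :
    pk (f 0) (f 1) (f 2) (f 3) (f 4) (f 5) (f 6) (f 7) (f 8) (f 9) (f 10) (f 11) < 16 ^ 12 := by
  unfold pk
  exact step_lt (hf 0) (step_lt (hf 1) (step_lt (hf 2) (step_lt (hf 3) (step_lt (hf 4) (step_lt (hf 5)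
    (step_lt (hf 6) (step_lt (hf 7) (step_lt (hf 8) (step_lt (hf 9) (step_lt (hf 10)
      (by have := hf 11; norm_num; exact this)))))))))))

theorem Rep.mul {x y : P12} {s t : ℕ} (hx : Rep x s) (hy : Rep y t) : Rep (x * y) (mulT s t) := by
  constructor
  · intro i
    unfold mulT
    rw [dg_pk (fun i => M12.dg s (M12.dg t i)) (fun i => dg_lt _ _) i i.2]
    show M12.dg s (M12.dg t i) = _
    rw [hy.dg i, hx.dg (y i)]
    rfl
  · exact pk_lt (fun i => M12.dg s (M12.dg t i)) (fun i => dg_lt _ _)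

theorem dg_div (s i : ℕ) : dg (s / 16) i = dg s (i + 1) := by
  unfold dg
  rw [Nat.div_div_eq_div_mul, pow_succ, mul_comm]

theorem eq_of_dg_aux : ∀ (n : ℕ) {s t : ℕ}, s < 16 ^ n → t < 16 ^ n → (∀ i < n, dg s i = dg t i) → s = t
  | 0, s, t, hs, ht, _ => by
    rw [pow_zero] at hs ht
    omega
  | n + 1, s, t, hs, ht, h => by
    have h1 : s / 16 = t / 16 := by
      apply eq_of_dg_aux n
      · rw [pow_succ] at hs; omega
      · rw [pow_succ] at ht; omega
      · intro i hi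
        rw [dg_div, dg_div]
        exact h (i + 1) (by omega)
    have h2 := h 0 (by omega)
    unfold dg at h2
    rw [pow_zero] at h2
    omega

theorem eq_of_dg {s t : ℕ} (hs : s < 16 ^ 12) (ht : t < 16 ^ 12) (h : ∀ i : Fin 12, dg s i = dg t i) :
    s = t := eq_of_dg_aux 12 hs ht fun i hi => h ⟨i, hi⟩

theorem Rep.eq_iff {x y : P12} {s t : ℕ} (hx : Rep x s) (hy : Rep y t) : x = y ↔ s = t := by
  constructor
  · intro h
    subst h
    exact eq_of_dg hx.lt hy.lt fun i => by rw [hx.dg, hy.dg]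
  · intro h
    subst h
    refine Equiv.ext fun i => Fin.ext ?_
    rw [← hx.dg, ← hy.dg]

/-- The table of the identity. -/
def oneT : ℕ := 0xba9876543210

theorem Rep.one : Rep 1 oneT := ⟨by decide +kernel, by norm_num [oneT]⟩

theorem Rep.eq_one_iff {x : P12} {s : ℕ} (hx : Rep x s) : x = 1 ↔ s = oneT := hx.eq_iff Rep.one

/-- The table is an involutory permutation. -/
def chkInv (t : ℕ) : Bool :=
  Nat.blt t (16 ^ 12) && (List.range 12).all fun i => Nat.blt (dg t i) 12 && Nat.beq (dg t (dg t i)) i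

theorem chkInv_dg {t : ℕ} (h : chkInv t = true) (i : Fin 12) : dg t i < 12 ∧ dg t (dg t i) = i := by
  unfold chkInv at h
  rw [Bool.and_eq_true, List.all_eq_true] at h
  have h1 := h.2 i (List.mem_range.2 i.2)
  rw [Bool.and_eq_true] at h1
  refine ⟨?_, Nat.eq_of_beq_eq_true h1.2⟩
  have := h1.1
  rw [Nat.blt_eq] at this
  exact this

/-- The involution with a given table. -/
def mkInv (t : ℕ) (h : chkInv t = true) : P12 where
  toFun i := ⟨dg t i, (chkInv_dg h i).1⟩
  invFun i := ⟨dg t i, (chkInv_dg h i).1⟩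
  left_inv i := Fin.ext (chkInv_dg h i).2
  right_inv i := Fin.ext (chkInv_dg h i).2

theorem mkInv_rep (t : ℕ) (h : chkInv t = true) : Rep (mkInv t h) t := by
  refine ⟨fun i => rfl, ?_⟩
  unfold chkInv at h
  rw [Bool.and_eq_true, Nat.blt_eq] at h
  exact h.1

theorem mkInv_mul_self (t : ℕ) (h : chkInv t = true) : mkInv t h * mkInv t h = 1 := by
  refine Equiv.ext fun i => ?_
  exact (mkInv t h).left_inv i

/-! ### the search -/

/-- Search through products of transversals with pruning conditions. -/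
def srch : List (List ℕ × (ℕ → Bool)) → ℕ → (ℕ → Bool) → Bool
  | [], t, f => f t
  | (T, pr) :: l, t, f => T.all fun u =>
      (fun t' => bif pr t' then srch l t' f else true) (mulT t u)

theorem srch_nil {t : ℕ} {f : ℕ → Bool} (h : srch [] t f = true) : f t = true := h

theorem srch_cons {T : List ℕ} {pr : ℕ → Bool} {l : List (List ℕ × (ℕ → Bool))} {t : ℕ} {f : ℕ → Bool}
    (h : srch ((T, pr) :: l) t f = true) {u : ℕ} (hu : u ∈ T) (hp : pr (mulT t u) = true) :
    srch l (mulT t u) f = true := by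
  have h1 := List.all_eq_true.1 h u hu
  simpa [hp] using h1

end Cfsg.Agent.CoThreeStd.M12
end

-- part: CoThreeStd/M12/Model
section
/-!
# The Mathieu group of degree twelve on twelve points, generated by six involutions

`G12 = ⟨y, p, q, r, s, b⟩` (letters `0 .. 5`) with transversals for the base `0, 6, 1, 2, 3`, and the isomorphism with
`Spor.M12`.  `y` is a fixed point free involution (class 2A), with centraliser `⟨y⟩ × ⟨p, q, r, s⟩ = 2 × S₅`.
-/

set_option autoImplicit false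

namespace Cfsg.Agent.CoThreeStd.M12

open Equiv Cfsg.Agent.SporadicStructure
open Cfsg
open scoped Pointwise

/-- Tables of the six letters. -/
def tlL : List ℕ := [0x98ba50734126, 0x537492b8a601, 0x26104a375b98, 0x3642918a75b, 0xab8942375601, 0x94b2356a7801]

/-- Table of a letter. -/
def tl (k : Fin 6) : ℕ := tlL.getD k 0

theorem chk_tl : ∀ k : Fin 6, chkInv (tl k) = true := by decide +kernel

/-- The letters. -/
def lp (k : Fin 6) : P12 := mkInv (tl k) (chk_tl k)

theorem lp_rep (k : Fin 6) : Rep (lp k) (tl k) := mkInv_rep _ _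

theorem lp_sq (k : Fin 6) : lp k * lp k = 1 := mkInv_mul_self _ _

/-- The Mathieu group on twelve points. -/
def G12 : Subgroup P12 := Subgroup.closure (Set.range lp)

/-- The letters as elements of the group. -/
def lt (k : Fin 6) : G12 := ⟨lp k, Subgroup.subset_closure ⟨k, rfl⟩⟩

/-- The value of a word. -/
def el (w : List (Fin 6)) : G12 := (w.map lt).prod

/-- The table of a word. -/
def wt (w : List (Fin 6)) : ℕ := w.foldr (fun k t => mulT (tl k) t) oneT

theorem el_nil : el [] = 1 := rfl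
theorem el_cons (k : Fin 6) (w : List (Fin 6)) : el (k :: w) = lt k * el w := rfl
theorem el_append (w w' : List (Fin 6)) : el (w ++ w') = el w * el w' := by
  unfold el; rw [List.map_append, List.prod_append]

theorem el_single (k : Fin 6) : el [k] = lt k := by rw [el_cons, el_nil, mul_one]

theorem el_rep (w : List (Fin 6)) : Rep (el w : P12) (wt w) := by
  induction w with
  | nil => exact Rep.one
  | cons k w ih => exact (lp_rep k).mul ih

theorem el_eq {w w' : List (Fin 6)} (h : wt w = wt w') : el w = el w' :=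
  Subtype.ext (((el_rep w).eq_iff (el_rep w')).2 h)

theorem el_eq_iff {w w' : List (Fin 6)} : el w = el w' ↔ wt w = wt w' := by
  rw [← (el_rep w).eq_iff (el_rep w'), ← Subtype.ext_iff]

theorem lt_sq (k : Fin 6) : lt k * lt k = 1 := Subtype.ext (lp_sq k)

theorem el_reverse (w : List (Fin 6)) : el w.reverse = (el w)⁻¹ := by
  induction w with
  | nil => simp [el_nil]
  | cons k w ih =>
    rw [List.reverse_cons, el_append, ih, el_single, el_cons, mul_inv_rev]
    rw [show (lt k)⁻¹ = lt k from inv_eq_of_mul_eq_one_left (lt_sq k)]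

/-! ### transversals -/

/-- The base. -/
def base (k : Fin 5) : Fin 12 := ![0, 6, 1, 2, 3] k

/-- Words for the transversal of level 0. -/
def W0 : List (List (Fin 6)) := [[], [1], [0, 1], [0, 1, 2], [1, 2], [1, 3], [0], [0, 1, 3], [2], [0, 3], [0, 2], [3]]
/-- Tables of the transversal of level 0. -/
def T0 : List ℕ := [0xba9876543210, 0x537492b8a601, 0x7453b19a8062, 0x162a48b9753, 0x620183a9b574, 0x1a28670439b5, 0x98ba50734126, 0x281a05634b97, 0x26104a375b98, 0x64031b2a8579, 0x1026384579ba, 0x3642918a75b]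
theorem T0_eq : W0.map wt = T0 := by decide +kernel

/-- Words for the transversal of level 1. -/
def W1 : List (List (Fin 6)) := [[0, 1, 2, 3, 4, 5], [3, 2, 5, 2], [4, 5], [0, 5, 1, 3], [0, 4, 5, 2], [], [1, 4, 5, 1], [5, 1], [1, 5, 4, 5], [0, 1, 5, 2], [1, 5]]
/-- Tables of the transversal of level 1. -/
def T1 : List ℕ := [0xb79651a32480, 0xba4692813570, 0x87a6532b4910, 0x63a1742859b0, 0xb42695371a80, 0xba9876543210, 0x68b537429a10, 0x673ab8924510, 0x6a8b29473510, 0x39264ab81570, 0x7856ab239410]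
theorem T1_eq : W1.map wt = T1 := by decide +kernel

/-- Words for the transversal of level 2. -/
def W2 : List (List (Fin 6)) := [[], [3, 5, 1, 2, 3, 2], [0, 3, 2, 1], [0, 2, 4, 5, 0, 3], [1, 4, 3, 5, 0, 3], [0, 2, 4, 3], [0, 1, 2, 3], [0, 1, 2, 5, 0, 3], [3, 5, 0, 3], [0, 3, 5, 3]]
/-- Tables of the transversal of level 2. -/
def T2 : List ℕ := [0xba9876543210, 0x7581b649a320, 0x82a17659b430, 0x71a5b6238940, 0x1ba236978450, 0xb49386a21570, 0x394b76521a80, 0x815a362b7490, 0x1352b64879a0, 0x71243695a8b0]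
theorem T2_eq : W2.map wt = T2 := by decide +kernel

/-- Words for the transversal of level 3. -/
def W3 : List (List (Fin 6)) := [[], [3, 4, 3, 5, 1, 2, 5], [5, 2, 1, 5, 1, 4, 3], [3, 5, 1, 4, 3, 2], [1, 5, 4, 5, 1, 5], [2, 1, 3, 4, 5, 3], [0, 3, 5, 0, 5, 0, 2, 1], [1, 5, 3, 4, 5, 1, 2], [5, 1, 5, 4, 5, 1]]
/-- Tables of the transversal of level 3. -/
def T3 : List ℕ := [0xba9876543210, 0xa5b476928310, 0x2a8736b59410, 0x7382a694b510, 0x2b49a6538710, 0x3759b624a810, 0x54b7a6283910, 0x8b7256493a10, 0xa78326594b10]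
theorem T3_eq : W3.map wt = T3 := by decide +kernel

/-- Words for the transversal of level 4. -/
def W4 : List (List (Fin 6)) := [[], [0, 4, 5, 0, 2, 3, 2, 5], [0, 2, 3, 2, 5, 0, 5, 1, 4, 5], [0, 1, 2, 1, 3, 2, 1, 4, 3, 2], [0, 2, 1, 3, 2, 1, 4, 3, 2, 1], [0, 1, 5, 0, 2, 3, 2, 5], [0, 5, 1, 2, 3, 4, 3, 2, 1, 5], [1, 4]]
/-- Tables of the transversal of level 4. -/
def T4 : List ℕ := [0xba9876543210, 0x9835a67b4210, 0xa37946b85210, 0x84a3b6957210, 0x795b364a8210, 0x47ba56839210, 0x5b849637a210, 0x354786a9b210]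
theorem T4_eq : W4.map wt = T4 := by decide +kernel

/-! ### the isomorphism with `Spor.M12` -/

/-- Positions of the twelve points of the dodecad. -/
def dpos : List ℕ := [0, 1, 2, 3, 4, 13, 6, 16, 18, 8, 12, 9]

/-- The tables of the letters on 24 points. -/
def t24 : List ℕ := [0x3ba6bab0ad55a12a3d09b822320446, 0xabef139288b29232b9b09897261801, 0x79573a01c4bc466a9c41532d06a512, 0x5bca789262b2823bb806a22b2641a9, 0xa96ea3a1c45c4697d19298ad069801, 0x9ba2ab8aa33d8c42d1097b56c84801]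

/-- The points of the dodecad. -/
def dp (i : Fin 12) : GolayPt := M12Core.ofPos (dpos.getD i 0)

/-- The number of a point. -/
def dn (p : GolayPt) : Fin 12 := ⟨dpos.idxOf (M12Core.pos p) % 12, Nat.mod_lt _ (by norm_num)⟩

theorem dn_dp : ∀ i, dn (dp i) = i := by decide +kernel

theorem dp_injective : Function.Injective dp := fun i j h => by rw [← dn_dp i, h, dn_dp]

theorem dodecad_eq : Spor.squareDodecad = M12Core.fin (M12Core.qmask 0) := by
  unfold Spor.squareDodecad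
  rw [← M12Core.word_qmask, M12Core.support_word]

theorem dp_mem (i : Fin 12) : dp i ∈ Spor.squareDodecad := by
  rw [dodecad_eq, M12Core.mem_fin]
  revert i
  decide +kernel

theorem dp_dn {p : GolayPt} (hp : p ∈ Spor.squareDodecad) : dp (dn p) = p := by
  rw [dodecad_eq, M12Core.mem_fin] at hp
  revert p
  decide +kernel

theorem dodecad_mem : Spor.squareDodecad ∈ dodecads := by
  rw [dodecad_eq]
  exact ⟨M12Core.fin_mem_supports (by decide +kernel), by rw [M12Core.card_fin]; decide +kernel⟩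

theorem smul_mem' {g : Perm GolayPt} (hg : g ∈ Spor.M12) {p : GolayPt} (hp : p ∈ Spor.squareDodecad) :
    g p ∈ Spor.squareDodecad := by
  have h1 : g • Spor.squareDodecad = Spor.squareDodecad := hg.2
  rw [← h1]
  exact Finset.smul_mem_smul_finset hp

/-- The action on the dodecad. -/
def toP (g : Spor.M12) : P12 where
  toFun i := dn ((g : Perm GolayPt) (dp i))
  invFun i := dn (((g⁻¹ : Spor.M12) : Perm GolayPt) (dp i))
  left_inv i := by
    show dn (((g⁻¹ : Spor.M12) : Perm GolayPt) (dp (dn ((g : Perm GolayPt) (dp i))))) = i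
    rw [dp_dn (smul_mem' g.2 (dp_mem i))]
    have h1 : ((g⁻¹ : Spor.M12) : Perm GolayPt) ((g : Perm GolayPt) (dp i)) = dp i := by
      rw [Subgroup.coe_inv]; simp
    rw [h1, dn_dp]
  right_inv i := by
    show dn ((g : Perm GolayPt) (dp (dn (((g⁻¹ : Spor.M12) : Perm GolayPt) (dp i))))) = i
    rw [dp_dn (smul_mem' (g⁻¹).2 (dp_mem i))]
    have h1 : (g : Perm GolayPt) (((g⁻¹ : Spor.M12) : Perm GolayPt) (dp i)) = dp i := by
      rw [Subgroup.coe_inv]; simp
    rw [h1, dn_dp]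

theorem dp_toP (g : Spor.M12) (i : Fin 12) : dp (toP g i) = (g : Perm GolayPt) (dp i) :=
  dp_dn (smul_mem' g.2 (dp_mem i))

/-- The action on the dodecad as a homomorphism. -/
def rho : Spor.M12 →* P12 := MonoidHom.mk' toP (by
  intro g h
  refine Equiv.ext fun i => dp_injective ?_
  rw [dp_toP, Perm.mul_apply, dp_toP, dp_toP]
  rfl)

theorem dp_rho (g : Spor.M12) (i : Fin 12) : dp (rho g i) = (g : Perm GolayPt) (dp i) := dp_toP g i

theorem sharp' {g : Spor.M12} (h : ∀ k, rho g (base k) = base k) : g = 1 := by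
  have hinj : Function.Injective (fun k : Fin 5 => dp (base k)) := by
    intro k l hkl
    have := dp_injective hkl
    revert k l
    decide +kernel
  obtain ⟨x, -, hx⟩ := DodecadM12.exists_unique_dodecad_map Spor.squareDodecad Spor.squareDodecad
    dodecad_mem dodecad_mem (fun k => dp (base k)) (fun k => dp (base k)) hinj hinj
    (fun k => dp_mem _) (fun k => dp_mem _)
  have h1 : (g : Perm GolayPt) = x := hx _ ⟨g.2.1, g.2.2, fun k => by
    show (g : Perm GolayPt) (dp (base k)) = dp (base k)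
    rw [← dp_rho, h]⟩
  have h2 : (1 : Perm GolayPt) = x := hx _ ⟨one_mem _, one_smul _ _, fun k => rfl⟩
  apply Subtype.ext
  rw [h1, ← h2]
  rfl

theorem rho_injective : Function.Injective rho := by
  rw [injective_iff_map_eq_one]
  intro g hg
  apply sharp'
  intro k
  rw [hg]; rfl

theorem good24 : ∀ k : Fin 6, M12Core.good (t24.getD k 0) = true ∧
    M12Core.act (t24.getD k 0) (M12Core.qmask 0) = M12Core.qmask 0 ∧
    ∀ i : Fin 12, M12Core.dig (t24.getD k 0) (dpos.getD i 0) = dpos.getD (dg (tl k) i) 0 := by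
  decide +kernel

/-- The letters in `Spor.M12`. -/
noncomputable def l24 (k : Fin 6) : Spor.M12 :=
  ⟨M12Core.perm (t24.getD k 0), by
    refine ⟨M12Core.perm_mem_M24 (good24 k).1, ?_⟩
    have hv := DodecadM12.valid_of_good (good24 k).1
    show M12Core.perm (t24.getD k 0) • Spor.squareDodecad = Spor.squareDodecad
    rw [dodecad_eq, M12Core.smul_fin hv, (good24 k).2.1]⟩

theorem pos_dp : ∀ i : Fin 12, M12Core.pos (dp i) = dpos.getD i 0 := by decide +kernel

theorem rho_l24 (k : Fin 6) : rho (l24 k) = lp k := by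
  refine Equiv.ext fun i => dp_injective ?_
  rw [dp_rho]
  apply M12Core.pos_injective
  show M12Core.pos (M12Core.perm (t24.getD k 0) (dp i)) = _
  rw [M12Core.pos_perm (DodecadM12.valid_of_good (good24 k).1), pos_dp, pos_dp, (good24 k).2.2 i,
    (lp_rep k).dg i]

theorem G12_le : G12 ≤ rho.range := by
  rw [G12, Subgroup.closure_le]
  rintro _ ⟨k, rfl⟩
  exact ⟨l24 k, rho_l24 k⟩

/-- An element of `G12` fixing the base is trivial. -/
theorem sharp {x : P12} (hx : x ∈ rho.range) (h : ∀ k, x (base k) = base k) : x = 1 := by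
  obtain ⟨g, rfl⟩ := hx
  rw [sharp' h, map_one]

/-! ### sifting -/

theorem el_apply (w : List (Fin 6)) (i : Fin 12) : dg (wt w) i = ((el w : P12) i : ℕ) := (el_rep w).dg i

theorem trans0 : ∀ i : Fin 12, ∃ w ∈ W0, dg (wt w) 0 = i := by decide +kernel
theorem trans1 : ∀ i : Fin 12, i ≠ 0 → ∃ w ∈ W1, dg (wt w) 6 = i ∧ dg (wt w) 0 = 0 := by decide +kernel
theorem trans2 : ∀ i : Fin 12, i ≠ 0 → i ≠ 6 → ∃ w ∈ W2, dg (wt w) 1 = i ∧ dg (wt w) 0 = 0 ∧ dg (wt w) 6 = 6 := by
  decide +kernel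
theorem trans3 : ∀ i : Fin 12, i ≠ 0 → i ≠ 6 → i ≠ 1 → ∃ w ∈ W3, dg (wt w) 2 = i ∧ dg (wt w) 0 = 0 ∧
    dg (wt w) 6 = 6 ∧ dg (wt w) 1 = 1 := by decide +kernel
theorem trans4 : ∀ i : Fin 12, i ≠ 0 → i ≠ 6 → i ≠ 1 → i ≠ 2 → ∃ w ∈ W4, dg (wt w) 3 = i ∧ dg (wt w) 0 = 0 ∧
    dg (wt w) 6 = 6 ∧ dg (wt w) 1 = 1 ∧ dg (wt w) 2 = 2 := by decide +kernel

theorem fix_inv_mul {x u : P12} {i : Fin 12} (h : x i = u i) : (u⁻¹ * x) i = i := by
  rw [Perm.mul_apply, h, Perm.inv_eq_iff_eq]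

theorem ne_of_fix {x : P12} {i j : Fin 12} (h : x i = i) (hij : j ≠ i) : x j ≠ i := by
  intro h1
  exact hij (x.injective (h1.trans h.symm))

/-- Every element is a product of elements of the transversals. -/
theorem exists_words {x : P12} (hx : x ∈ rho.range) : ∃ w0 ∈ W0, ∃ w1 ∈ W1, ∃ w2 ∈ W2, ∃ w3 ∈ W3, ∃ w4 ∈ W4,
    x = el (w0 ++ w1 ++ w2 ++ w3 ++ w4) ∧ (el w1 : P12) 0 = 0 ∧ ((el w2 : P12) 0 = 0 ∧ (el w2 : P12) 6 = 6) ∧
    ((el w3 : P12) 0 = 0 ∧ (el w3 : P12) 6 = 6 ∧ (el w3 : P12) 1 = 1) ∧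
    ((el w4 : P12) 0 = 0 ∧ (el w4 : P12) 6 = 6 ∧ (el w4 : P12) 1 = 1 ∧ (el w4 : P12) 2 = 2) := by
  have hm : ∀ w, (el w : P12) ∈ rho.range := fun w => G12_le (el w).2
  obtain ⟨w0, hw0, e0⟩ := trans0 (x 0)
  have f0 : x 0 = (el w0 : P12) 0 := Fin.ext (by rw [← el_apply]; exact e0.symm)
  set x1 := (el w0 : P12)⁻¹ * x with hx1
  have h1 : x1 ∈ rho.range := Subgroup.mul_mem _ (Subgroup.inv_mem _ (hm w0)) hx
  have a0 : x1 0 = 0 := fix_inv_mul f0
  obtain ⟨w1, hw1, e1, e10⟩ := trans1 (x1 6) (ne_of_fix a0 (by decide))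
  have f1 : x1 6 = (el w1 : P12) 6 := Fin.ext (by rw [← el_apply]; exact e1.symm)
  have g10 : (el w1 : P12) 0 = 0 := Fin.ext (by rw [← el_apply]; exact e10)
  set x2 := (el w1 : P12)⁻¹ * x1 with hx2
  have h2 : x2 ∈ rho.range := Subgroup.mul_mem _ (Subgroup.inv_mem _ (hm w1)) h1
  have b0 : x2 0 = 0 := fix_inv_mul (a0.trans g10.symm)
  have b1 : x2 6 = 6 := fix_inv_mul f1
  obtain ⟨w2, hw2, e2, e20, e21⟩ := trans2 (x2 1) (ne_of_fix b0 (by decide)) (ne_of_fix b1 (by decide))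
  have f2 : x2 1 = (el w2 : P12) 1 := Fin.ext (by rw [← el_apply]; exact e2.symm)
  have g20 : (el w2 : P12) 0 = 0 := Fin.ext (by rw [← el_apply]; exact e20)
  have g21 : (el w2 : P12) 6 = 6 := Fin.ext (by rw [← el_apply]; exact e21)
  set x3 := (el w2 : P12)⁻¹ * x2 with hx3
  have h3 : x3 ∈ rho.range := Subgroup.mul_mem _ (Subgroup.inv_mem _ (hm w2)) h2
  have c0 : x3 0 = 0 := fix_inv_mul (b0.trans g20.symm)
  have c1 : x3 6 = 6 := fix_inv_mul (b1.trans g21.symm)
  have c2 : x3 1 = 1 := fix_inv_mul f2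
  obtain ⟨w3, hw3, e3, e30, e31, e32⟩ := trans3 (x3 2) (ne_of_fix c0 (by decide)) (ne_of_fix c1 (by decide))
    (ne_of_fix c2 (by decide))
  have f3 : x3 2 = (el w3 : P12) 2 := Fin.ext (by rw [← el_apply]; exact e3.symm)
  have g30 : (el w3 : P12) 0 = 0 := Fin.ext (by rw [← el_apply]; exact e30)
  have g31 : (el w3 : P12) 6 = 6 := Fin.ext (by rw [← el_apply]; exact e31)
  have g32 : (el w3 : P12) 1 = 1 := Fin.ext (by rw [← el_apply]; exact e32)
  set x4 := (el w3 : P12)⁻¹ * x3 with hx4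
  have h4 : x4 ∈ rho.range := Subgroup.mul_mem _ (Subgroup.inv_mem _ (hm w3)) h3
  have d0 : x4 0 = 0 := fix_inv_mul (c0.trans g30.symm)
  have d1 : x4 6 = 6 := fix_inv_mul (c1.trans g31.symm)
  have d2 : x4 1 = 1 := fix_inv_mul (c2.trans g32.symm)
  have d3 : x4 2 = 2 := fix_inv_mul f3
  obtain ⟨w4, hw4, e4, e40, e41, e42, e43⟩ := trans4 (x4 3) (ne_of_fix d0 (by decide)) (ne_of_fix d1 (by decide))
    (ne_of_fix d2 (by decide)) (ne_of_fix d3 (by decide))
  have f4 : x4 3 = (el w4 : P12) 3 := Fin.ext (by rw [← el_apply]; exact e4.symm)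
  have g40 : (el w4 : P12) 0 = 0 := Fin.ext (by rw [← el_apply]; exact e40)
  have g41 : (el w4 : P12) 6 = 6 := Fin.ext (by rw [← el_apply]; exact e41)
  have g42 : (el w4 : P12) 1 = 1 := Fin.ext (by rw [← el_apply]; exact e42)
  have g43 : (el w4 : P12) 2 = 2 := Fin.ext (by rw [← el_apply]; exact e43)
  have h5 : (el w4 : P12)⁻¹ * x4 ∈ rho.range := Subgroup.mul_mem _ (Subgroup.inv_mem _ (hm w4)) h4
  have h6 : (el w4 : P12)⁻¹ * x4 = 1 := by
    apply sharp h5
    intro k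
    fin_cases k
    · exact fix_inv_mul (d0.trans g40.symm)
    · exact fix_inv_mul (d1.trans g41.symm)
    · exact fix_inv_mul (d2.trans g42.symm)
    · exact fix_inv_mul (d3.trans g43.symm)
    · exact fix_inv_mul f4
  refine ⟨w0, hw0, w1, hw1, w2, hw2, w3, hw3, w4, hw4, ?_, g10, ⟨g20, g21⟩, ⟨g30, g31, g32⟩, ⟨g40, g41, g42, g43⟩⟩
  have h7 : x4 = el w4 := by rw [inv_mul_eq_one] at h6; exact h6.symm
  have h8 : x3 = el w3 * el w4 := by rw [← h7, hx4]; group
  have h9 : x2 = el w2 * (el w3 * el w4) := by rw [← h8, hx3]; group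
  have h10 : x1 = el w1 * (el w2 * (el w3 * el w4)) := by rw [← h9, hx2]; group
  have h11 : x = el w0 * (el w1 * (el w2 * (el w3 * el w4))) := by rw [← h10, hx1]; group
  rw [h11, el_append, el_append, el_append, el_append]
  simp only [Subgroup.coe_mul, mul_assoc]

theorem range_eq : rho.range = G12 := by
  apply le_antisymm _ G12_le
  intro x hx
  obtain ⟨w0, -, w1, -, w2, -, w3, -, w4, -, rfl, -⟩ := exists_words hx
  exact (el _).2

/-- `Spor.M12` is `G12`. -/
noncomputable def equiv : Spor.M12 ≃* G12 :=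
  (MonoidHom.ofInjective rho_injective).trans (MulEquiv.subgroupCongr range_eq)

theorem mul_base {u v : P12} {s t : ℕ} (hu : Rep u s) (hv : Rep v t) {i : Fin 12} (h : v i = i) :
    dg (mulT s t) i = dg s i := by
  rw [(hu.mul hv).dg, hu.dg, Perm.mul_apply, h]

/-- **Search.** The conditions `p k` may depend on the images of `base 0, …, base k` only. -/
theorem srch_sound (p0 p1 p2 p3 p4 : ℕ → Bool) (f : ℕ → Bool)
    (h : srch [(T0, p0), (T1, p1), (T2, p2), (T3, p3), (T4, p4)] oneT f = true) (x : G12)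
    (h0 : ∀ t, dg t 0 = ((x : P12) 0 : ℕ) → p0 t = true)
    (h1 : ∀ t, dg t 0 = ((x : P12) 0 : ℕ) → dg t 6 = ((x : P12) 6 : ℕ) → p1 t = true)
    (h2 : ∀ t, dg t 0 = ((x : P12) 0 : ℕ) → dg t 6 = ((x : P12) 6 : ℕ) → dg t 1 = ((x : P12) 1 : ℕ) →
      p2 t = true)
    (h3 : ∀ t, dg t 0 = ((x : P12) 0 : ℕ) → dg t 6 = ((x : P12) 6 : ℕ) → dg t 1 = ((x : P12) 1 : ℕ) →
      dg t 2 = ((x : P12) 2 : ℕ) → p3 t = true)
    (h4 : ∀ t, Rep x t → p4 t = true) : ∃ t, Rep x t ∧ f t = true := by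
  obtain ⟨w0, hw0, w1, hw1, w2, hw2, w3, hw3, w4, hw4, hx, a, ⟨b, c⟩, ⟨d, e, g⟩, ⟨i, j, k, l⟩⟩ :=
    exists_words (x := (x : P12)) (by rw [range_eq]; exact x.2)
  have r0 := (Rep.one).mul (el_rep w0)
  have r1 := r0.mul (el_rep w1)
  have r2 := r1.mul (el_rep w2)
  have r3 := r2.mul (el_rep w3)
  have r4 := r3.mul (el_rep w4)
  have e4 : (1 * (el w0 : P12) * el w1 * el w2 * el w3 * el w4 : P12) = x := by
    rw [hx, el_append, el_append, el_append, el_append, one_mul]
    rfl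
  have hR : Rep (x : P12) (mulT (mulT (mulT (mulT (mulT oneT (wt w0)) (wt w1)) (wt w2)) (wt w3)) (wt w4)) := by
    rw [← e4]; exact r4
  have x0 : dg (mulT oneT (wt w0)) (0 : Fin 12) = ((x : P12) 0 : ℕ) := by
    rw [← hR.dg 0, mul_base r3 (el_rep w4) i, mul_base r2 (el_rep w3) d, mul_base r1 (el_rep w2) b,
      mul_base r0 (el_rep w1) a]
  have x10 : dg (mulT (mulT oneT (wt w0)) (wt w1)) (0 : Fin 12) = ((x : P12) 0 : ℕ) := by
    rw [mul_base r0 (el_rep w1) a]; exact x0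
  have x16 : dg (mulT (mulT oneT (wt w0)) (wt w1)) (6 : Fin 12) = ((x : P12) 6 : ℕ) := by
    rw [← hR.dg 6, mul_base r3 (el_rep w4) j, mul_base r2 (el_rep w3) e, mul_base r1 (el_rep w2) c]
  have x20 : dg (mulT (mulT (mulT oneT (wt w0)) (wt w1)) (wt w2)) (0 : Fin 12) = ((x : P12) 0 : ℕ) := by
    rw [mul_base r1 (el_rep w2) b]; exact x10
  have x26 : dg (mulT (mulT (mulT oneT (wt w0)) (wt w1)) (wt w2)) (6 : Fin 12) = ((x : P12) 6 : ℕ) := by
    rw [mul_base r1 (el_rep w2) c]; exact x16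
  have x21 : dg (mulT (mulT (mulT oneT (wt w0)) (wt w1)) (wt w2)) (1 : Fin 12) = ((x : P12) 1 : ℕ) := by
    rw [← hR.dg 1, mul_base r3 (el_rep w4) k, mul_base r2 (el_rep w3) g]
  have x30 : dg (mulT (mulT (mulT (mulT oneT (wt w0)) (wt w1)) (wt w2)) (wt w3)) (0 : Fin 12) =
      ((x : P12) 0 : ℕ) := by rw [mul_base r2 (el_rep w3) d]; exact x20
  have x36 : dg (mulT (mulT (mulT (mulT oneT (wt w0)) (wt w1)) (wt w2)) (wt w3)) (6 : Fin 12) =
      ((x : P12) 6 : ℕ) := by rw [mul_base r2 (el_rep w3) e]; exact x26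
  have x31 : dg (mulT (mulT (mulT (mulT oneT (wt w0)) (wt w1)) (wt w2)) (wt w3)) (1 : Fin 12) =
      ((x : P12) 1 : ℕ) := by rw [mul_base r2 (el_rep w3) g]; exact x21
  have x32 : dg (mulT (mulT (mulT (mulT oneT (wt w0)) (wt w1)) (wt w2)) (wt w3)) (2 : Fin 12) =
      ((x : P12) 2 : ℕ) := by rw [← hR.dg 2, mul_base r3 (el_rep w4) l]
  have m0 : wt w0 ∈ T0 := T0_eq ▸ List.mem_map_of_mem hw0
  have m1 : wt w1 ∈ T1 := T1_eq ▸ List.mem_map_of_mem hw1
  have m2 : wt w2 ∈ T2 := T2_eq ▸ List.mem_map_of_mem hw2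
  have m3 : wt w3 ∈ T3 := T3_eq ▸ List.mem_map_of_mem hw3
  have m4 : wt w4 ∈ T4 := T4_eq ▸ List.mem_map_of_mem hw4
  exact ⟨_, hR, srch_nil (srch_cons (srch_cons (srch_cons (srch_cons (srch_cons h m0 (h0 _ x0)) m1
    (h1 _ x10 x16)) m2 (h2 _ x20 x26 x21)) m3 (h3 _ x30 x36 x31 x32)) m4 (h4 _ hR))⟩

end Cfsg.Agent.CoThreeStd.M12
end
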